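import Groth.Prelude.Def_CAlg2

/-!
An integrally closed local domain is geometrically unibranch.
-/

set_option autoImplicit false
universe u

set_option linter.style.haveILetI false

namespace Groth.Agent.NormalUnib

theorem isGeomUnibranch_of_normal (A : Type u) [CommRing A] [IsLocalRing A] [IsDomain A]
    [IsIntegrallyClosed A] : CAlg2.IsGeomUnibranch A := by
  have hnil : nilradical A = ⊥ := by rw [nilradical_eq_zero]; rfl
  let e : CAlg2.red A ≃+* A := (Ideal.quotEquivOfEq hnil).trans (RingEquiv.quotientBot A)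
  haveI hd : IsDomain (CAlg2.red A) := e.toMulEquiv.isDomain A
  haveI : IsIntegrallyClosed (CAlg2.red A) := IsIntegrallyClosed.of_equiv e.symm
  haveI : IsLocalRing (CAlg2.red A) := IsLocalRing.of_surjective' (Ideal.Quotient.mk (nilradical A)) Ideal.Quotient.mk_surjective
  have hbot : integralClosure (CAlg2.red A) (FractionRing (CAlg2.red A)) = ⊥ :=
    IsIntegrallyClosed.integralClosure_eq_bot _ _
  have hsurj : Function.Surjective (algebraMap (CAlg2.red A) (CAlg2.normRed A)) := fun x => by
    have hx : (x : FractionRing (CAlg2.red A)) ∈ (⊥ : Subalgebra (CAlg2.red A) (FractionRing (CAlg2.red A))) := by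
      rw [← hbot]
      exact x.2
    obtain ⟨a, ha⟩ := Algebra.mem_bot.1 hx
    exact ⟨a, Subtype.ext ha⟩
  refine ⟨⟨hd, IsLocalRing.of_surjective' _ hsurj⟩, fun m' _ x => ⟨0, ?_⟩⟩
  obtain ⟨y, rfl⟩ := Ideal.Quotient.mk_surjective x
  obtain ⟨z, rfl⟩ := hsurj y
  obtain ⟨a, rfl⟩ := Ideal.Quotient.mk_surjective z
  exact ⟨a, by simp⟩

end Groth.Agent.NormalUnib
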